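import Groth.Agent.S12531
import Groth.Agent.S14451
import Groth.Agent.S0071
import Groth.Agent.S0646
import Groth.Agent.S0073
import Groth.Agent.EtMVLib.HpullApply
import Groth.Agent.EtContLib.ThenOps
import Groth.Agent.Pi1Ext.SepClosureLim
import Groth.Agent.EtFound.Basic
import Groth.Prelude.Def_EtLim
import Mathlib.FieldTheory.Galois.Basic
import Mathlib.FieldTheory.SeparableClosure
import Mathlib.FieldTheory.IsSepClosed
import Mathlib.FieldTheory.Normal.Closure
import Mathlib.GroupTheory.Sylow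

/-! etale cohomology of a field in positive degree is torsion -/

set_option autoImplicit false
set_option maxHeartbeats 1000000
set_option synthInstance.maxHeartbeats 400000
set_option backward.isDefEq.respectTransparency false
set_option backward.isDefEq.respectTransparency.types false
set_option linter.style.haveILetI false

universe u

open CategoryTheory CategoryTheory.Limits AlgebraicGeometry Opposite CategoryTheory.Abelian

namespace Groth.Agent.GalTorLib

theorem HF_map_apply {X : Scheme.{u}} {F G : EtCoh.Ab X} (φ : F ⟶ G) (n : ℕ) (x : EtCoh.H X F n) :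
    (EtCoh.HF X n).map φ x = x.comp (Ext.mk₀ φ) (add_zero n) := rfl

theorem hofPush_unit {X Y : Scheme.{u}} (f : X ⟶ Y) [PreservesFiniteLimits (EtCoh.pull f)] (F : EtCoh.Ab Y) (n : ℕ)
    (α : EtCoh.H Y F n) :
    EtLim.HofPush f ((EtCoh.pull f).obj F) n ((EtCoh.HF Y n).map ((EtCoh.pullPushAdj f).unit.app F) α) =
      EtCore.Hpull f F n α := by
  show (EtCoh.HF X n).map _ (EtCore.Hpull f _ n _) = _
  rw [HF_map_apply, HF_map_apply, EtMVLib.Hpull_apply, EtMVLib.Hpull_apply, Ext.mapExactFunctor_comp,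
    Ext.mapExactFunctor_mk₀, Ext.comp_assoc_of_third_deg_zero, Ext.comp_assoc_of_third_deg_zero,
    Ext.mk₀_comp_mk₀]
  have h := (EtCoh.pullPushAdj f).left_triangle_components F
  erw [h]
  exact congrArg (fun z => (Ext.mk₀ (EtCore.pullConst f ℤ).inv).comp z (zero_add n)) (Ext.comp_mk₀_id _)

theorem HF_map_nsmul {X : Scheme.{u}} (F : EtCoh.Ab X) (n m : ℕ) (x : EtCoh.H X F n) :
    (EtCoh.HF X n).map (m • 𝟙 F) x = m • x := by
  rw [HF_map_apply]
  induction m with
  | zero => rw [zero_smul, Ext.mk₀_zero, Ext.comp_zero, zero_smul]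
  | succ k ih => rw [succ_nsmul, Ext.mk₀_add, Ext.comp_add, ih, Ext.comp_mk₀_id, succ_nsmul]

theorem nsmul_eq_zero_of_cover {X X' : Scheme.{u}} (f : X' ⟶ X) [IsFinite f] [Etale f] (d : ℕ)
    (hd : ∀ x : X, Scheme.Hom.finrank f x = d) [PreservesFiniteLimits (EtCoh.pull f)] (F : EtCoh.Ab X) (q : ℕ)
    (α : EtCoh.H X F q) (hα : EtCore.Hpull f F q α = 0) : d • α = 0 := by
  haveI : Flat f := inferInstance
  haveI : LocallyOfFinitePresentation f := inferInstance
  obtain ⟨adj, hadj⟩ := Groth.Agent.S12531.result f d hd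
  have hb := Groth.Agent.S14451.result f ((EtCoh.pull f).obj F)
    (fun p hp => Groth.Agent.S0071.result f ((EtCoh.pull f).obj F) p hp) q
  have h0 : (EtCoh.HF X q).map ((EtCoh.pullPushAdj f).unit.app F) α = 0 := by
    refine hb.1 ?_
    rw [hofPush_unit, hα, map_zero]
  have h1 : (EtCoh.HF X q).map (adj.counit.app F) ((EtCoh.HF X q).map ((EtCoh.pullPushAdj f).unit.app F) α) =
      (EtCoh.HF X q).map (d • 𝟙 F) α := by
    refine (ConcreteCategory.comp_apply _ _ _).symm.trans ?_
    exact congrArg (fun φ => (ConcreteCategory.hom φ) α) (((EtCoh.HF X q).map_comp _ _).symm.trans (congrArg _ (hadj F)))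
  refine Eq.trans ?_ (h1.symm.trans ((congrArg ((EtCoh.HF X q).map (adj.counit.app F)) h0).trans (map_zero _)))
  exact (HF_map_nsmul F q d α).symm

theorem hpull_comp_eq_zero_iff {A B C : Scheme.{u}} (a : A ⟶ B) (b : B ⟶ C) (c : A ⟶ C) (w : a ≫ b = c)
    [PreservesFiniteLimits (EtCoh.pull a)] [PreservesFiniteLimits (EtCoh.pull b)]
    [PreservesFiniteLimits (EtCoh.pull c)] (F : EtCoh.Ab C) (q : ℕ) (e : EtCoh.H C F q) :
    EtCore.Hpull a ((EtCoh.pull b).obj F) q (EtCore.Hpull b F q e) = 0 ↔ EtCore.Hpull c F q e = 0 := by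
  let G := (EtCoh.pull b).obj F
  let M := (EtCoh.pull a).obj G
  let t := EtContLib.comp2 a b c w (𝟙 G) (𝟙 M)
  haveI : IsIso t := by
    show IsIso (_ ≫ _ ≫ (EtCoh.pull a).map (𝟙 _) ≫ 𝟙 _)
    infer_instance
  have hid : ∀ {X Y : Scheme.{u}} (u : X ⟶ Y) [PreservesFiniteLimits (EtCoh.pull u)] (H : EtCoh.Ab Y) (e),
      EtLim.HpullThen u H (𝟙 ((EtCoh.pull u).obj H)) q e = EtCore.Hpull u H q e := fun u _ H e => by
    show (EtCoh.HF _ q).map (𝟙 _) (EtCore.Hpull u H q e) = _
    rw [CategoryTheory.Functor.map_id]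
    rfl
  have key := EtContLib.HpullThen_comp a b c w (𝟙 G) (𝟙 M) q e
  rw [hid b F, hid a G] at key
  have ht : Function.Bijective ((EtCoh.HF A q).map t) := ConcreteCategory.bijective_of_isIso _
  show EtCore.Hpull a G q (EtCore.Hpull b F q e) = 0 ↔ _
  rw [key]
  exact ⟨fun h => ht.1 (h.trans (map_zero _).symm), fun h => (congrArg ((EtCoh.HF A q).map t) h).trans (map_zero _)⟩

theorem finrank_nsmul_eq_zero (K L : Type u) [Field K] [Field L] [Algebra K L] [FiniteDimensional K L]
    [Algebra.IsSeparable K L] [PreservesFiniteLimits (EtCoh.pull (Spec.map (CommRingCat.ofHom (algebraMap K L))))]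
    (F : EtCoh.Ab (Spec (CommRingCat.of K))) (i : ℕ) (α : EtCoh.H (Spec (CommRingCat.of K)) F i)
    (hα : EtCore.Hpull (Spec.map (CommRingCat.ofHom (algebraMap K L))) F i α = 0) :
    Module.finrank K L • α = 0 := by
  haveI : IsFinite (Spec.map (CommRingCat.ofHom (algebraMap K L))) :=
    (IsFinite.SpecMap_iff _).2 (RingHom.finite_algebraMap.2 inferInstance)
  haveI : Algebra.FormallyEtale K L := (Algebra.FormallyEtale.iff_isSeparable K L).2 inferInstance
  haveI : Algebra.Etale K L := ⟨inferInstance, Algebra.FinitePresentation.of_finiteType.mp inferInstance⟩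
  haveI : Etale (Spec.map (CommRingCat.ofHom (algebraMap K L))) :=
    (HasRingHomProperty.Spec_iff (P := @Etale)).2 (RingHom.etale_algebraMap.2 inferInstance)
  refine nsmul_eq_zero_of_cover _ _ (fun x => ?_) F i α hα
  rw [Scheme.Hom.finrank_SpecMap_algebraMap, Module.rankAtStalk_eq_finrank_of_free]
  simp

/-- Every class in positive degree dies over a finite separable extension. -/
theorem exists_sep_kill (K : Type u) [Field K] (F : EtCoh.Ab (Spec (CommRingCat.of K))) (i : ℕ) (hi : 0 < i)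
    (α : EtCoh.H (Spec (CommRingCat.of K)) F i) :
    ∃ (L : IntermediateField K (SeparableClosure K)) (_ : FiniteDimensional K L)
      (_ : PreservesFiniteLimits (EtCoh.pull (Spec.map (CommRingCat.ofHom (algebraMap K L))))),
      EtCore.Hpull (Spec.map (CommRingCat.ofHom (algebraMap K L))) F i α = 0 := by
  classical
  let Ks := SeparableClosure K
  haveI : ∀ {X Y : Scheme.{u}} (f : X ⟶ Y), PreservesFiniteLimits (EtCoh.pull f) := fun f => EtContLib.pfl f
  let c := Pi1Ext.SepLim.specCone K Ks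
  let j₀ : Finset Ks := ∅
  let b := Pi1Ext.SepLim.str K Ks (op j₀)
  let F₀ := (EtCoh.pull b).obj F
  let m := (Pi1Ext.SepLim.specs K Ks).map (homOfLE (le_refl j₀)).op
  haveI : IsSepClosed (IsLocalRing.ResidueField Ks) := by
    let e := RingEquiv.ofBijective (IsLocalRing.residue Ks)
      ⟨(IsLocalRing.residue Ks).injective, IsLocalRing.residue_surjective⟩
    exact IsSepClosed.of_exists_root _ fun P hm hi hs => by
      obtain ⟨x, hx⟩ := IsSepClosed.exists_root (P.map e.symm.toRingHom) (by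
        rw [Polynomial.degree_map]; exact (Polynomial.degree_pos_of_irreducible hi).ne') (hs.map)
      refine ⟨e x, ?_⟩
      have := congrArg e hx
      rw [map_zero] at this
      rw [← this, Polynomial.eval_map, show e (Polynomial.eval₂ e.symm.toRingHom x P) = _ from
        Polynomial.hom_eval₂ P e.symm.toRingHom e.toRingHom x]
      simp [Polynomial.eval₂_id]
  haveI : HenselianLocalRing Ks := inferInstance
  have haff : ∀ ⦃a b : (Finset Ks)ᵒᵖ⦄ (h : a ⟶ b), IsAffineHom ((Pi1Ext.SepLim.specs K Ks).map h) := fun a b h => by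
    show IsAffineHom (Spec.map _)
    infer_instance
  haveI := Groth.Agent.S0073.result Ks
    ((EtCoh.pull (c.π.app (op j₀))).obj F₀) i hi
  obtain ⟨k, hk, hξ⟩ := (Groth.Agent.S0646.result (Pi1Ext.SepLim.specs K Ks) haff
    (fun a => inferInstanceAs (CompactSpace ↥(Spec _))) (fun a => inferInstanceAs (QuasiSeparatedSpace ↥(Spec _)))
    c (Pi1Ext.SepLim.isLimitSpec K Ks) j₀ F₀ i).2 j₀ le_rfl
    (EtCore.Hpull m F₀ i (EtCore.Hpull b F i α)) (@Subsingleton.elim _ ‹_› _ _)
  let a := (Pi1Ext.SepLim.specs K Ks).map (homOfLE hk).op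
  have hmb : m ≫ b = b := Pi1Ext.SepLim.str_map K Ks _
  have hab : a ≫ b = Pi1Ext.SepLim.str K Ks (op k) := Pi1Ext.SepLim.str_map K Ks _
  have h1 := (hpull_comp_eq_zero_iff a m (a ≫ m) rfl F₀ i _).1 hξ
  have h2 := (hpull_comp_eq_zero_iff (a ≫ m) b _ (by rw [Category.assoc, hmb, hab]) F i α).1 h1
  refine ⟨Pi1Ext.SepLim.sub K Ks k, ?_, EtContLib.pfl _, h2⟩
  exact IntermediateField.finiteDimensional_adjoin fun x _ => (Algebra.IsSeparable.isSeparable K x).isIntegral

theorem isOfFinAddOrder (K : Type u) [Field K] (F : EtCoh.Ab (Spec (CommRingCat.of K))) (i : ℕ) (hi : 0 < i)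
    (α : EtCoh.H (Spec (CommRingCat.of K)) F i) : IsOfFinAddOrder α := by
  obtain ⟨L, hfd, hpfl, h⟩ := exists_sep_kill K F i hi α
  exact isOfFinAddOrder_iff_nsmul_eq_zero.2 ⟨Module.finrank K L, Module.finrank_pos, finrank_nsmul_eq_zero K L F i α h⟩

theorem subsingleton_of_uniquely_divisible (K : Type u) [Field K] (F : EtCoh.Ab (Spec (CommRingCat.of K)))
    (hdiv : ∀ n : ℕ, 0 < n → IsIso (n • 𝟙 F)) (i : ℕ) (hi : 0 < i) :
    Subsingleton (EtCoh.H (Spec (CommRingCat.of K)) F i) := by
  refine subsingleton_of_forall_eq 0 fun α => ?_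
  obtain ⟨n, hn, h⟩ := isOfFinAddOrder_iff_nsmul_eq_zero.1 (isOfFinAddOrder K F i hi α)
  haveI := hdiv n hn
  refine (ConcreteCategory.bijective_of_isIso ((EtCoh.HF (Spec (CommRingCat.of K)) i).map (n • 𝟙 F))).1 ?_
  exact (HF_map_nsmul F i n α).trans (h.trans (map_zero _).symm)

theorem exists_ext_not_dvd (K : Type u) [Field K] (F : EtCoh.Ab (Spec (CommRingCat.of K))) (i : ℕ)
    (α : EtCoh.H (Spec (CommRingCat.of K)) F i) (L : Type u) [Field L] [Algebra K L] [FiniteDimensional K L]
    [Algebra.IsSeparable K L] [PreservesFiniteLimits (EtCoh.pull (Spec.map (CommRingCat.ofHom (algebraMap K L))))]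
    (hα : EtCore.Hpull (Spec.map (CommRingCat.ofHom (algebraMap K L))) F i α = 0) (p : ℕ) (hp : p.Prime)
    (hpα : ¬ p ∣ addOrderOf α) :
    ∃ (L' : Type u) (_ : Field L') (_ : Algebra K L') (_ : FiniteDimensional K L') (_ : Algebra.IsSeparable K L'),
      ¬ p ∣ Module.finrank K L' ∧
        ∀ [PreservesFiniteLimits (EtCoh.pull (Spec.map (CommRingCat.ofHom (algebraMap K L'))))],
          EtCore.Hpull (Spec.map (CommRingCat.ofHom (algebraMap K L'))) F i α = 0 := by
  haveI := Fact.mk hp
  let Ks := SeparableClosure K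
  let M : IntermediateField K Ks := IntermediateField.normalClosure K L Ks
  haveI : Normal K Ks := inferInstance
  haveI : FiniteDimensional K M := normalClosure.is_finiteDimensional K L Ks
  haveI : IsGalois K M := ⟨⟩
  let τ : L →ₐ[K] Ks := IsSepClosed.lift
  let σ : L →ₐ[K] M := τ.codRestrict M.toSubalgebra fun x => τ.fieldRange_le_normalClosure ⟨x, rfl⟩
  obtain ⟨P⟩ : Nonempty (Sylow p Gal(M/K)) := inferInstance
  let L' : IntermediateField K M := IntermediateField.fixedField (P : Subgroup Gal(M/K))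
  refine ⟨L', inferInstance, inferInstance, inferInstance, inferInstance, ?_, fun {inst} => ?_⟩
  · have h1 := IntermediateField.finrank_fixedField_eq_card (P : Subgroup Gal(M/K))
    have h2 : Module.finrank K L' * Module.finrank L' M = Module.finrank K M := Module.finrank_mul_finrank K L' M
    rw [h1, ← IsGalois.card_aut_eq_finrank K M] at h2
    have h3 := (P : Subgroup Gal(M/K)).card_mul_index
    have h4 : Module.finrank K L' = (P : Subgroup Gal(M/K)).index := by
      refine Nat.eq_of_mul_eq_mul_right (Nat.card_pos (α := (P : Subgroup Gal(M/K)))) ?_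
      rw [h2, ← h3, mul_comm]
    rw [h4]
    exact P.not_dvd_index
  · haveI := inst
    haveI : ∀ {X Y : Scheme.{u}} (f : X ⟶ Y), PreservesFiniteLimits (EtCoh.pull f) := fun f => EtContLib.pfl f
    set α' := EtCore.Hpull (Spec.map (CommRingCat.ofHom (algebraMap K L'))) F i α
    have hM : EtCore.Hpull (Spec.map (CommRingCat.ofHom (algebraMap K M))) F i α = 0 := by
      have w : Spec.map (CommRingCat.ofHom σ.toRingHom) ≫ Spec.map (CommRingCat.ofHom (algebraMap K L)) =
          Spec.map (CommRingCat.ofHom (algebraMap K M)) := by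
        rw [← Spec.map_comp, ← CommRingCat.ofHom_comp]
        exact congrArg (fun g => Spec.map (CommRingCat.ofHom g)) σ.comp_algebraMap
      refine (hpull_comp_eq_zero_iff _ _ _ w F i α).1 ?_
      rw [hα, map_zero]
    have hM' : EtCore.Hpull (Spec.map (CommRingCat.ofHom (algebraMap L' M))) _ i α' = 0 :=
      (hpull_comp_eq_zero_iff _ _ _ (by
        rw [← Spec.map_comp, ← CommRingCat.ofHom_comp, ← IsScalarTower.algebraMap_eq]) F i α).2 hM
    have h1 := finrank_nsmul_eq_zero L' M _ i α' hM'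
    rw [IntermediateField.finrank_fixedField_eq_card] at h1
    obtain ⟨a, ha⟩ := IsPGroup.iff_card.1 P.isPGroup'
    rw [ha] at h1
    have h2 : addOrderOf α' ∣ addOrderOf α := addOrderOf_map_dvd _ α
    obtain ⟨k, _, hk⟩ := (Nat.dvd_prime_pow hp).1 (addOrderOf_dvd_of_nsmul_eq_zero h1)
    rcases Nat.eq_zero_or_pos k with rfl | hk0
    · exact AddMonoid.addOrderOf_eq_one_iff.1 (hk.trans (pow_zero p))
    · exact absurd (((dvd_pow_self p hk0.ne').trans hk.symm.dvd).trans h2) hpα

end Groth.Agent.GalTorLib
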