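import Groth.Agent.GalTorLib.Basic
import Groth.Agent.S3054
import Groth.Agent.EtContLib.CdLimit
import Groth.Agent.EtPBC0.AcycComp
import Mathlib.Algebra.Category.Grp.Abelian
import Mathlib.Data.Rat.Lemmas

/-! cohomological dimension of fields -/

set_option autoImplicit false
set_option maxHeartbeats 1000000
set_option synthInstance.maxHeartbeats 400000
set_option backward.isDefEq.respectTransparency false
set_option backward.isDefEq.respectTransparency.types false
set_option linter.style.haveILetI false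

universe u

open CategoryTheory CategoryTheory.Limits AlgebraicGeometry Opposite CategoryTheory.Abelian

namespace Groth.Agent.GalTorLib

/-- `p`-cohomological dimension at most `n`. -/
def CdLE (X : Scheme.{u}) (p n : ℕ) : Prop :=
  ∀ (F : EtCoh.Ab X), EtCoh.IsTorsion F → ∀ q : ℕ, n < q → ∀ x : EtCoh.H X F q, (∃ m : ℕ, p ^ m • x = 0) → x = 0

theorem cdLE_of_isIntegralHom {X Y : Scheme.{u}} (f : X ⟶ Y) [IsIntegralHom f] (p n : ℕ) (h : CdLE Y p n) :
    CdLE X p n := by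
  intro F hF q hq x ⟨m, hm⟩
  haveI := EtContLib.pfl f
  have hb := Groth.Agent.S14451.result f F (fun i hi => Groth.Agent.S3054.result f F i hi) q
  obtain ⟨y, rfl⟩ := hb.2 x
  have hy : y = 0 := h _ (EtContLib.isTorsion_push_of_isAffineHom f hF) q hq y
    ⟨m, hb.1 (by rw [map_nsmul, hm, map_zero])⟩
  rw [hy, map_zero]

theorem isTorsion_pull {A B : Scheme.{u}} (f : A ⟶ B) (F : EtCoh.Ab B) (hF : EtCoh.IsTorsion F) :
    EtCoh.IsTorsion ((EtCoh.pull f).obj F) := by
  have h : EtAcyc.IsLTorsion Set.univ F := fun U s x => by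
    obtain ⟨V, g, hv, ho⟩ := hF U s x
    exact ⟨V, g, addOrderOf (F.obj.map g.op s), hv, ⟨ho.addOrderOf_pos, fun _ _ _ => Set.mem_univ _⟩,
      addOrderOf_nsmul_eq_zero _⟩
  intro U s x
  obtain ⟨V, g, m, hv, hm, h0⟩ := EtPBC0.AcycComp.isLTorsion_pull f Set.univ F h U s x
  exact ⟨V, g, hv, isOfFinAddOrder_iff_nsmul_eq_zero.2 ⟨m, hm.1, h0⟩⟩

theorem isTorsion_of_nsmul_id {X : Scheme.{u}} (G : EtCoh.Ab X) (m : ℕ) (hm : 0 < m) (h : m • 𝟙 G = 0) :
    EtCoh.IsTorsion G := by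
  intro U s x
  refine ⟨U, 𝟙 U, ⟨x, rfl⟩, isOfFinAddOrder_iff_nsmul_eq_zero.2 ⟨m, hm, ?_⟩⟩
  have happ : ∀ (t : G.obj.obj (op U)), (m • 𝟙 G : G ⟶ G).hom.app (op U) t = m • t := by
    intro t
    clear h hm
    induction m with
    | zero => simp
    | succ k ih => simp only [succ_nsmul]; exact congrArg (· + t) ih
  rw [← happ, h]
  rfl

theorem finrank_le {k K : Type u} [Field k] [Field K] [Algebra k K] [FiniteDimensional k K] [Algebra.IsSeparable k K]
    (p n : ℕ) (hp : p.Prime) (hdeg : ¬ p ∣ Module.finrank k K) (h : CdLE (Spec (CommRingCat.of K)) p n) :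
    CdLE (Spec (CommRingCat.of k)) p n := by
  intro F hF q hq x ⟨m, hm⟩
  haveI := EtContLib.pfl (Spec.map (CommRingCat.ofHom (algebraMap k K)))
  have h0 := h _ (isTorsion_pull _ F hF) q hq (EtCore.Hpull (Spec.map (CommRingCat.ofHom (algebraMap k K))) F q x)
    ⟨m, by rw [← map_nsmul, hm, map_zero]⟩
  have h1 := addOrderOf_dvd_of_nsmul_eq_zero (finrank_nsmul_eq_zero k K F q x h0)
  obtain ⟨i, _, hi⟩ := (Nat.dvd_prime_pow hp).1 (addOrderOf_dvd_of_nsmul_eq_zero hm)
  rcases Nat.eq_zero_or_pos i with rfl | hi0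
  · exact AddMonoid.addOrderOf_eq_one_iff.1 (hi.trans (pow_zero p))
  · exact absurd (((dvd_pow_self p hi0.ne').trans hi.symm.dvd).trans h1) hdeg

theorem ext_zero_of_nsmul_id {X : Scheme.{u}} {G : EtCoh.Ab X} {q m : ℕ} (h : m • 𝟙 G = 0) (z : EtCoh.H X G q) :
    m • z = 0 := by
  rw [← HF_map_nsmul G q m z, h, HF_map_apply, Ext.mk₀_zero, Ext.comp_zero]

theorem torsion_succ {X : Scheme.{u}} (p n : ℕ) (hp : p.Prime) (h : CdLE X p n) (F : EtCoh.Ab X) (q : ℕ)
    (hq : n + 1 < q) (x : EtCoh.H X F q) (hx : ∃ m : ℕ, p ^ m • x = 0) : x = 0 := by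
  obtain ⟨m, hm⟩ := hx
  obtain ⟨r, rfl⟩ : ∃ r, q = r + 1 := ⟨q - 1, by omega⟩
  let N := p ^ m
  have hN : 0 < N := pow_pos hp.pos m
  let φ : F ⟶ F := N • 𝟙 F
  let π := Limits.factorThruImage φ
  let i := Limits.image.ι φ
  have hK : N • 𝟙 (kernel φ) = 0 := by
    refine (cancel_mono (kernel.ι φ)).1 ?_
    rw [Preadditive.nsmul_comp, Category.id_comp, zero_comp]
    exact (show N • kernel.ι φ = kernel.ι φ ≫ φ by rw [Preadditive.comp_nsmul, Category.comp_id]).trans (kernel.condition φ)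
  have hC : N • 𝟙 (cokernel i) = 0 := by
    refine (cancel_epi (cokernel.π i)).1 ?_
    rw [Preadditive.comp_nsmul, Category.comp_id, comp_zero]
    have : φ ≫ cokernel.π i = 0 :=
      (congrArg (fun e => e ≫ cokernel.π i) (Limits.image.fac φ)).symm.trans
        ((Category.assoc _ _ _).trans ((congrArg (Limits.factorThruImage φ ≫ ·) (cokernel.condition i)).trans comp_zero))
    exact (show N • cokernel.π i = φ ≫ cokernel.π i by rw [Preadditive.nsmul_comp, Category.id_comp]).trans this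
  let S₁ : ShortComplex (EtCoh.Ab X) := ShortComplex.mk (kernel.ι φ) π
    ((cancel_mono i).1 (by rw [Category.assoc, Limits.image.fac, zero_comp, kernel.condition]))
  have hS₁ : S₁.ShortExact := by
    haveI : Epi S₁.g := inferInstanceAs (Epi (Limits.factorThruImage φ))
    haveI : Mono S₁.f := inferInstanceAs (Mono (kernel.ι φ))
    refine ShortComplex.ShortExact.mk' (S₁.exact_of_f_is_kernel ?_) inferInstance inferInstance
    exact isKernelOfComp i φ (kernelIsKernel φ) S₁.zero (Limits.image.fac φ)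
  let S₂ : ShortComplex (EtCoh.Ab X) := ShortComplex.mk i (cokernel.π i) (cokernel.condition i)
  have hS₂ : S₂.ShortExact := by
    haveI : Epi S₂.g := inferInstanceAs (Epi (cokernel.π i))
    haveI : Mono S₂.f := inferInstanceAs (Mono i)
    exact ShortComplex.ShortExact.mk' (S₂.exact_of_g_is_cokernel (cokernelIsCokernel i)) inferInstance inferInstance
  let y : EtCoh.H X S₁.X₃ (r + 1) := (Ext.comp x (Ext.mk₀ π) (add_zero (r + 1)))
  have hy : y.comp (Ext.mk₀ i) (add_zero (r + 1)) = 0 := by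
    rw [Ext.comp_assoc_of_third_deg_zero, Ext.mk₀_comp_mk₀, Limits.image.fac]
    exact (HF_map_nsmul F (r + 1) N x).trans hm
  obtain ⟨z, hz⟩ := Ext.covariant_sequence_exact₁ _ hS₂ y hy (n₀ := r) rfl
  have hz0 : z = 0 := h _ (isTorsion_of_nsmul_id _ N hN hC) r (by omega) z ⟨m, ext_zero_of_nsmul_id hC z⟩
  have hy0 : y = 0 := by rw [← hz, hz0, Ext.zero_comp]
  obtain ⟨w, hw⟩ := Ext.covariant_sequence_exact₂ _ hS₁ x hy0
  have hw0 : w = 0 := h _ (isTorsion_of_nsmul_id _ N hN hK) (r + 1) (by omega) w ⟨m, ext_zero_of_nsmul_id hK w⟩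
  rw [← hw, hw0, Ext.zero_comp]

/-- The integers inside the rationals. -/
noncomputable def qzSeq : ShortComplex AddCommGrpCat.{u + 1} :=
  ShortComplex.mk (X₁ := AddCommGrpCat.of (ULift.{u + 1} ℤ)) (X₂ := AddCommGrpCat.of (ULift.{u + 1} ℚ))
    (X₃ := AddCommGrpCat.of (ULift.{u + 1} (ℚ ⧸ AddSubgroup.zmultiples (1 : ℚ))))
    (AddCommGrpCat.ofHom (AddMonoidHom.mk' (fun k => ⟨(k.down : ℚ)⟩) fun a b => ULift.ext _ _ (Int.cast_add _ _)))
    (AddCommGrpCat.ofHom (AddMonoidHom.mk' (fun k => ⟨(QuotientAddGroup.mk k.down)⟩) fun a b => ULift.ext _ _ rfl))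
    (by
      refine AddCommGrpCat.hom_ext (AddMonoidHom.ext fun k => ULift.ext _ _ ?_)
      show (QuotientAddGroup.mk ((k.down : ℚ)) : ℚ ⧸ AddSubgroup.zmultiples (1 : ℚ)) = 0
      rw [QuotientAddGroup.eq_zero_iff]
      exact ⟨k.down, by simp⟩)

theorem qzSeq_shortExact : qzSeq.{u}.ShortExact := by
  haveI : Mono qzSeq.{u}.f := (AddCommGrpCat.mono_iff_injective _).2 fun a b h =>
    ULift.ext _ _ (Int.cast_injective (congrArg ULift.down h))
  haveI : Epi qzSeq.{u}.g := (AddCommGrpCat.epi_iff_surjective _).2 fun a => by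
    obtain ⟨b, hb⟩ := QuotientAddGroup.mk_surjective a.down
    exact ⟨⟨b⟩, ULift.ext _ _ hb⟩
  refine ShortComplex.ShortExact.mk' ((ShortComplex.ab_exact_iff _).2 fun x hx => ?_) inferInstance inferInstance
  have hx' : (QuotientAddGroup.mk x.down : ℚ ⧸ AddSubgroup.zmultiples (1 : ℚ)) = 0 := congrArg ULift.down hx
  obtain ⟨k, hk⟩ := (QuotientAddGroup.eq_zero_iff _).1 hx'
  exact ⟨⟨k⟩, ULift.ext _ _ (show (k : ℚ) = x.down by rw [← hk]; simp)⟩

theorem constSheaf_shortExact {Y : Scheme.{u}} {S : ShortComplex AddCommGrpCat.{u + 1}} (hS : S.ShortExact) :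
    ∃ (_ : (constantSheaf Y.smallEtaleTopology AddCommGrpCat.{u + 1}).PreservesZeroMorphisms),
      (S.map (constantSheaf Y.smallEtaleTopology AddCommGrpCat.{u + 1})).ShortExact := by
  let F := constantSheaf Y.smallEtaleTopology AddCommGrpCat.{u + 1}
  haveI : (EtCore.gsec Y).Additive := ⟨fun {_ _ _ _} => rfl⟩
  haveI : F.Additive := (EtCore.constAdj Y).left_adjoint_additive
  have : PreservesFiniteLimits F := comp_preservesFiniteLimits _ _
  have : PreservesColimitsOfSize.{0, 0} F := (EtCore.constAdj Y).leftAdjoint_preservesColimits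
  have : PreservesFiniteColimits F := PreservesColimitsOfSize.preservesFiniteColimits _
  exact ⟨inferInstance, hS.map_of_exact _⟩

theorem constInt_equiv (k : Type u) [Field k] (i : ℕ) (hi : 2 ≤ i) :
    Nonempty (EtCoh.H (Spec (CommRingCat.of k)) (EtCoh.const (Spec (CommRingCat.of k)) ℤ) i ≃+
      EtCoh.H (Spec (CommRingCat.of k))
        (EtCoh.const (Spec (CommRingCat.of k)) (ℚ ⧸ AddSubgroup.zmultiples (1 : ℚ))) (i - 1)) := by
  obtain ⟨j, rfl⟩ : ∃ j, i = j + 1 := ⟨i - 1, by omega⟩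
  let X := Spec (CommRingCat.of k)
  obtain ⟨_, hS⟩ := constSheaf_shortExact (Y := X) qzSeq_shortExact
  let C := constantSheaf X.smallEtaleTopology AddCommGrpCat.{u + 1}
  haveI : (EtCore.gsec X).Additive := ⟨fun {_ _ _ _} => rfl⟩
  haveI : C.Additive := (EtCore.constAdj X).left_adjoint_additive
  have hdiv : ∀ m : ℕ, 0 < m → IsIso (m • 𝟙 (C.obj qzSeq.X₂)) := fun m hm => by
    haveI : IsIso (m • 𝟙 qzSeq.{u}.X₂) := (ConcreteCategory.isIso_iff_bijective _).2 (by
      have happ : ∀ t : qzSeq.{u}.X₂, (m • 𝟙 qzSeq.{u}.X₂ : _ ⟶ _) t = m • t := fun t => rfl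
      rw [show (⇑(m • 𝟙 qzSeq.{u}.X₂ : qzSeq.{u}.X₂ ⟶ qzSeq.{u}.X₂)) = fun t => m • t from funext happ]
      have hm' : (m : ℚ) ≠ 0 := Nat.cast_ne_zero.2 hm.ne'
      refine ⟨fun a b h => ULift.ext _ _ (mul_left_cancel₀ hm' ?_), fun a => ⟨⟨a.down / m⟩, ULift.ext _ _ ?_⟩⟩
      · rw [← nsmul_eq_mul, ← nsmul_eq_mul]
        exact congrArg ULift.down h
      · show m • (a.down / m) = a.down
        rw [nsmul_eq_mul, mul_div_cancel₀ _ hm'])
    rw [← C.map_id, ← Functor.map_nsmul]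
    infer_instance
  have hQ : ∀ l, 0 < l → Subsingleton (EtCoh.H X (C.obj qzSeq.X₂) l) :=
    fun l hl => subsingleton_of_uniquely_divisible k _ hdiv l hl
  let δ : EtCoh.H X (C.obj qzSeq.X₃) j →+ EtCoh.H X (C.obj qzSeq.X₁) (j + 1) := hS.extClass.postcomp _ rfl
  refine ⟨(AddEquiv.ofBijective δ ⟨(injective_iff_map_eq_zero δ).2 fun z hz => ?_, fun y => ?_⟩).symm⟩
  · obtain ⟨w, hw⟩ := Ext.covariant_sequence_exact₃ _ hS z rfl hz
    haveI := hQ j (by omega)
    rw [← hw, show w = 0 from @Subsingleton.elim _ (hQ j (by omega)) _ _, Ext.zero_comp]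
  · obtain ⟨z, hz⟩ := Ext.covariant_sequence_exact₁ _ hS y
      (@Subsingleton.elim _ (hQ (j + 1) (by omega)) _ _) (n₀ := j) rfl
    exact ⟨z, hz⟩

end Groth.Agent.GalTorLib
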